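import Groth.Agent.Lib.AR.Chain
import Mathlib.CategoryTheory.Abelian.GrothendieckAxioms.Connected
import Mathlib.CategoryTheory.Abelian.GrothendieckAxioms.Colim
import Mathlib.CategoryTheory.Abelian.GrothendieckCategory.Basic
import Mathlib.CategoryTheory.Adjunction.Limits
import Mathlib.CategoryTheory.Subobject.NoetherianObject
import Mathlib.CategoryTheory.Generator.Basic
import Mathlib.CategoryTheory.Limits.Preserves.Filtered

/-!
# Transferring Grothendieck axioms along a faithful exact left adjoint
-/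

universe w u₁ u₂

open CategoryTheory CategoryTheory.Limits

namespace Groth.Agent.Lib.Grothendieck.AdjointTransfer

set_option backward.isDefEq.respectTransparency false
set_option linter.unusedSectionVars false

attribute [local instance] IsFiltered.isConnected Abelian.hasFiniteBiproducts

variable {A : Type u₁} [Category.{w} A] [Abelian A] [HasColimitsOfSize.{w, w} A]
  {B : Type u₂} [Category.{w} B] [Abelian B] [HasColimitsOfSize.{w, w} B] [AB5OfSize.{w, w} B]
  (F : A ⥤ B) (G : B ⥤ A) (adj : F ⊣ G) [F.Additive] [F.Faithful]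
  [PreservesFiniteLimits F] [PreservesFiniteColimits F]

include adj in
lemma ab5 : AB5OfSize.{w, w} A := by
  have := adj.leftAdjoint_preservesColimits
  have : F.ReflectsIsomorphisms := ⟨fun {X Y} f _ => by
    have : Mono f := F.mono_of_mono_map (inferInstanceAs (Mono (F.map f)))
    have : Epi f := F.epi_of_epi_map (inferInstanceAs (Epi (F.map f)))
    exact isIso_of_mono_of_epi f⟩
  have : ReflectsFiniteLimits F :=
    ⟨fun J _ _ => reflectsLimitsOfShape_of_reflectsIsomorphisms⟩
  exact ⟨fun J _ _ => HasExactColimitsOfShape.domain_of_functor J F⟩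

include adj in
lemma mono_unit (X : A) : Mono (adj.unit.app X) := inferInstance

section Subobjects


/-- The map on subobjects. -/
noncomputable def mapSub (X : A) (S : Subobject X) : Subobject (F.obj X) :=
  Subobject.mk (F.map S.arrow)

lemma mapSub_mono (X : A) : Monotone (mapSub F X) := fun S T h => by
  refine Subobject.mk_le_mk_of_comm (F.map (Subobject.ofLE S T h)) ?_
  rw [← F.map_comp, Subobject.ofLE_arrow]

lemma mapSub_reflects {X : A} {S T : Subobject X} (h : mapSub F X S ≤ mapSub F X T) : S ≤ T := by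
  have hf := Subobject.ofMkLEMk_comp h
  have hzero : S.arrow ≫ cokernel.π T.arrow = 0 := by
    apply F.map_injective
    rw [F.map_zero, F.map_comp, ← hf, Category.assoc, ← F.map_comp, cokernel.condition, F.map_zero,
      comp_zero]
  exact Subobject.le_of_comm (Abelian.monoLift T.arrow S.arrow hzero) (Abelian.monoLift_comp _ _ _)

lemma mapSub_injective (X : A) : Function.Injective (mapSub F X) := fun _ _ h =>
  le_antisymm (mapSub_reflects F h.le) (mapSub_reflects F h.ge)

lemma mapSub_strictMono (X : A) : StrictMono (mapSub F X) := fun _ _ h =>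
  lt_of_le_of_ne (mapSub_mono F X h.le) fun e => h.ne (mapSub_injective F X e)

include F in
lemma isNoetherianObject_of_map (a : A) (h : IsNoetherianObject (F.obj a)) :
    IsNoetherianObject a := by
  rw [isNoetherianObject_iff_not_strictMono] at h ⊢
  exact fun f hf => h (mapSub F a ∘ f) ((mapSub_strictMono F a).comp hf)

end Subobjects

include adj in
lemma exists_mono_of_isPullback {X : A} {U : B} (i : U ⟶ F.obj X) [Mono i] {P : A}
    {fst : P ⟶ G.obj U} {snd : P ⟶ X} (h : IsPullback fst snd (G.map i) (adj.unit.app X)) :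
    Mono snd ∧ ∃ j : F.obj P ⟶ U, Mono j ∧ j ≫ i = F.map snd := by
  have : PreservesLimitsOfSize.{0, 0} G := adj.rightAdjoint_preservesLimits
  have : Mono snd := MorphismProperty.of_isPullback (P := MorphismProperty.monomorphisms A) h
    (inferInstanceAs (Mono (G.map i)))
  refine ⟨this, (adj.homEquiv _ _).symm fst, ?_⟩
  have hj : (adj.homEquiv _ _).symm fst ≫ i = F.map snd := by
    apply (adj.homEquiv _ _).injective
    rw [Adjunction.homEquiv_naturality_right, Equiv.apply_symm_apply, h.w]
    simp [Adjunction.homEquiv_unit]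
  exact ⟨mono_of_mono_fac hj, hj⟩

section Generators

omit [HasColimitsOfSize.{w, w} A] in
lemma exists_isColimit {J : Type w} [Preorder J] [IsFiltered J] {X : B} (S : J → Subobject X)
    (hS : Monotone S) (h : ∀ (Z : B) (π : X ⟶ Z), (∀ j, (S j).arrow ≫ π = 0) → π = 0) :
    ∃ α : hS.functor ⋙ Subobject.underlying ⟶ (Functor.const J).obj X,
      Nonempty (IsColimit (Cocone.mk X α)) ∧ ∀ j, α.app j = (S j).arrow := by
  let U : J ⥤ B := hS.functor ⋙ Subobject.underlying
  let α : U ⟶ (Functor.const J).obj X :=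
    { app := fun j => (S j).arrow
      naturality := fun i j f => (Subobject.ofLE_arrow (hS (leOfHom f))).trans (Category.comp_id _).symm }
  let c : Cocone U := ⟨X, α⟩
  have : Mono (colimit.desc U c) := by
    have : ∀ j, Mono (α.app j) := fun j => inferInstanceAs (Mono (S j).arrow)
    have := NatTrans.mono_of_mono_app α
    exact colim.map_mono' α (colimit.isColimit U) (isColimitConstCocone _ X)
      (colimit.desc U c) (fun j => (colimit.ι_desc c j).trans (Category.comp_id _).symm)
  have : Epi (colimit.desc U c) := Preadditive.epi_of_cancel_zero _ fun {Z} π hπ =>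
    h Z π fun j => (congrArg (· ≫ π) (colimit.ι_desc c j).symm).trans
      ((Category.assoc _ _ _).trans ((congrArg (colimit.ι U j ≫ ·) hπ).trans comp_zero))
  have : IsIso (colimit.desc U c) := isIso_of_mono_of_epi _
  exact ⟨α, ⟨IsColimit.ofPointIso (colimit.isColimit U) (i := this)⟩, fun j => rfl⟩

variable {ι : Type w} (s : ι → B)
  (hsep : ∀ ⦃X Y : B⦄ (f g : X ⟶ Y), (∀ (i : ι) (h : s i ⟶ X), h ≫ f = h ≫ g) → f = g)

include hsep

lemma isSeparating : ObjectProperty.IsSeparating (ObjectProperty.ofObj s) := fun X Y f g h =>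
  hsep f g fun i k => h (s i) ⟨i⟩ k

lemma isGrothendieckAbelian : IsGrothendieckAbelian.{w} B where
  hasSeparator := ⟨_, (isSeparating s hsep).isSeparator_coproduct⟩

omit [HasColimitsOfSize.{w, w} B] [AB5OfSize.{w, w} B] in
lemma eq_zero_of_pullbacks [AB5OfSize.{w, w} A] {J : Type w} [SmallCategory J] [IsFiltered J]
    {U : J ⥤ A} (c : Cocone U) (hc : IsColimit c) {X Y : A} (f : X ⟶ c.pt) (g : X ⟶ Y)
    (h : ∀ (j : J) (P : A) (fst : P ⟶ U.obj j) (snd : P ⟶ X),
      IsPullback fst snd (c.ι.app j) f → snd ≫ g = 0) : g = 0 := by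
  refine (hc.pullbackOfHasExactColimitsOfShape f).hom_ext fun j => ?_
  exact (h j _ _ _ ((IsPullback.of_hasPullback c.ι ((Functor.const J).map f)).map
    ((evaluation _ _).obj j))).trans comp_zero.symm

variable [PreservesFilteredColimitsOfSize.{w, w} G]

include adj in
/-- Detecting zero morphisms by small subobjects. -/
theorem eq_zero_of_small {X Y : A} (g : X ⟶ Y)
    (hg : ∀ (n : ℕ) (k : Fin n → ι) (U : B) (p : ⨁ (fun m => s (k m)) ⟶ U) (i : U ⟶ F.obj X)
      (P : A) (fst : P ⟶ G.obj U) (snd : P ⟶ X),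
      Epi p → Mono i → IsPullback fst snd (G.map i) (adj.unit.app X) → snd ≫ g = 0) :
    g = 0 := by
  classical
  have := ab5 F G adj
  have hR : IsGrothendieckAbelian.{w} B := isGrothendieckAbelian s hsep
  let E := Σ i, s i ⟶ F.obj X
  let d : ∀ S : Finset E, (⨁ fun m : Fin S.card => s (S.equivFin.symm m).1.1) ⟶ F.obj X := fun S =>
    biproduct.desc fun m => (S.equivFin.symm m).1.2
  have hmem : ∀ (S : Finset E) (i : ι) (h : s i ⟶ F.obj X), (⟨i, h⟩ : E) ∈ S →
      ∃ x : s i ⟶ (imageSubobject (d S) : B), x ≫ (imageSubobject (d S)).arrow = h := by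
    intro S i h he
    have h2 : ∀ e' : E, ∀ m, (S.equivFin.symm m).1 = e' → ∃ x : s e'.1 ⟶ _,
        x ≫ (imageSubobject (d S)).arrow = e'.2 := by
      rintro e' m rfl
      exact ⟨biproduct.ι (fun m : Fin S.card => s (S.equivFin.symm m).1.1) m ≫
        factorThruImageSubobject (d S), by simp [d]⟩
    exact h2 ⟨i, h⟩ (S.equivFin ⟨⟨i, h⟩, he⟩) (by rw [Equiv.symm_apply_apply])
  have hmono : Monotone fun S : Finset E => imageSubobject (d S) := by
    intro S T hST
    have hx : ∀ m : Fin S.card, ∃ x : s (S.equivFin.symm m).1.1 ⟶ _,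
        x ≫ (imageSubobject (d T)).arrow = (S.equivFin.symm m).1.2 :=
      fun m => hmem T (S.equivFin.symm m).1.1 (S.equivFin.symm m).1.2 (hST (S.equivFin.symm m).2)
    choose x hx using hx
    exact imageSubobject_le _ (biproduct.desc x) (by ext m; simp [d, hx])
  have hcov : ∀ (Z : B) (π : F.obj X ⟶ Z),
      (∀ S : Finset E, (imageSubobject (d S)).arrow ≫ π = 0) → π = 0 := fun Z π hπ =>
    hsep π 0 fun i h => by
      obtain ⟨x, hx⟩ := hmem {⟨i, h⟩} i h (Finset.mem_singleton_self _)
      rw [comp_zero, ← hx, Category.assoc, hπ, comp_zero]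
  obtain ⟨cι, ⟨hc⟩, hι⟩ := exists_isColimit (fun S => imageSubobject (d S)) hmono hcov
  let c : Cocone (hmono.functor ⋙ Subobject.underlying) := ⟨F.obj X, cι⟩
  have hGc : IsColimit (G.mapCocone c) := isColimitOfPreserves G hc
  refine eq_zero_of_pullbacks s hsep _ hGc (adj.unit.app X) g fun S P fst snd hpb => ?_
  have hpb' : IsPullback fst snd (G.map (imageSubobject (d S)).arrow) (adj.unit.app X) :=
    (congrArg (fun z => G.map z) (hι S)) ▸ hpb
  exact hg S.card _ _ (factorThruImageSubobject (d S)) _ P fst snd inferInstance inferInstance hpb'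

lemma isNoetherian_quotient (hsN : ∀ i, IsNoetherianObject (s i)) {n : ℕ} (k : Fin n → ι) {U : B}
    (p : ⨁ (fun m => s (k m)) ⟶ U) [Epi p] : IsNoetherianObject U :=
  AR.isNoetherianObject_of_epi p
    (AR.closed_isNoetherianObject.biproduct_fin _ fun m => hsN (k m))

include adj in
theorem isNoetherian_iff (hsN : ∀ i, IsNoetherianObject (s i)) (a : A) :
    IsNoetherianObject a ↔ IsNoetherianObject (F.obj a) := by
  refine ⟨fun ha => ?_, isNoetherianObject_of_map F a⟩
  let T : Set (Subobject a) := {S | IsNoetherianObject (F.obj (S : A))}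
  have hT : T.Nonempty := ⟨⊥, isNoetherianObject_of_isZero
    (F.map_isZero ((isZero_zero A).of_iso Subobject.botCoeIsoZero))⟩
  obtain ⟨S, hS, hmax⟩ := (wellFounded_gt (α := Subobject a)).has_min T hT
  have hle : ∀ S' ∈ T, S' ≤ S := by
    intro S' hS'
    let q := biprod.desc S.arrow S'.arrow
    have hq : imageSubobject q ∈ T :=
      AR.isNoetherianObject_of_epi (F.map (factorThruImageSubobject q))
        (AR.closed_isNoetherianObject.ext
          (((ShortComplex.Splitting.ofHasBinaryBiproduct (S : A) (S' : A)).map F).shortExact.exact) hS hS')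
    have h₁ : S ≤ imageSubobject q := Subobject.le_of_comm
      (biprod.inl ≫ factorThruImageSubobject q) (by simp [q])
    have h₂ : S' ≤ imageSubobject q := Subobject.le_of_comm
      (biprod.inr ≫ factorThruImageSubobject q) (by simp [q])
    have := hmax _ hq
    exact h₂.trans (eq_of_le_of_not_lt h₁ this).ge
  have h0 : cokernel.π S.arrow = 0 := eq_zero_of_small F G adj s hsep _
    fun n k U p i P fst snd hp hi hpb => by
    obtain ⟨hsnd, j, hj, -⟩ := exists_mono_of_isPullback F G adj i hpb
    have := isNoetherian_quotient s hsep hsN k p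
    have hP : IsNoetherianObject (F.obj P) := isNoetherianObject_of_mono j
    have hmem : Subobject.mk snd ∈ T :=
      isNoetherianObject_of_mono (F.map (Subobject.underlyingIso snd).hom)
    rw [← Subobject.underlyingIso_arrow snd, ← Subobject.ofLE_arrow (hle _ hmem), Category.assoc,
      Category.assoc, cokernel.condition, comp_zero, comp_zero]
  have : Epi S.arrow := Abelian.epi_of_cokernel_π_eq_zero _ h0
  have : IsIso S.arrow := isIso_of_mono_of_epi _
  have : IsNoetherianObject (F.obj (S : A)) := hS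
  exact isNoetherianObject_of_mono (inv (F.map S.arrow))

include adj in
theorem exists_small_family :
    ∃ (κ : Type w) (t : κ → A), ∀ (X : A) (n : ℕ) (k : Fin n → ι) (U : B)
      (p : ⨁ (fun m => s (k m)) ⟶ U) (i : U ⟶ F.obj X) (P : A) (fst : P ⟶ G.obj U) (snd : P ⟶ X),
      Epi p → Mono i → IsPullback fst snd (G.map i) (adj.unit.app X) →
        ∃ x, Nonempty (t x ≅ P) := by
  have hR : IsGrothendieckAbelian.{w} B := isGrothendieckAbelian s hsep
  have hA : ∀ X : A, Small.{w} (Subobject X) := fun X => small_of_injective (mapSub_injective F X)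
  let Qu : ∀ (n : ℕ) (k : Fin n → ι), Shrink.{w} (Subobject (⨁ fun m => s (k m))) → B :=
    fun n k Q => cokernel ((equivShrink _).symm Q).arrow
  refine ⟨Σ (n : ℕ) (k : Fin n → ι) (Q : Shrink.{w} (Subobject (⨁ fun m => s (k m)))),
    Shrink.{w} (Subobject (G.obj (Qu n k Q))),
    fun x => (((equivShrink _).symm x.2.2.2 : Subobject _) : A),
    fun X n k U p i P fst snd hp hi hpb => ?_⟩
  let Q := equivShrink.{w} _ (kernelSubobject p)
  have hcongr : ∀ {Z : B} (S T : Subobject Z), S = T → Nonempty (cokernel S.arrow ≅ cokernel T.arrow) := by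
    rintro _ S _ rfl
    exact ⟨Iso.refl _⟩
  have he : Nonempty (Qu n k Q ≅ U) := by
    obtain ⟨e₀⟩ := hcongr _ _ ((equivShrink.{w} (Subobject (⨁ fun m => s (k m)))).symm_apply_apply
      (kernelSubobject p))
    exact ⟨e₀ ≪≫ cokernelIsoOfEq (kernelSubobject_arrow p).symm ≪≫ cokernelEpiComp _ _ ≪≫
      (cokernelIsCokernel _).coconePointUniqueUpToIso (Abelian.epiIsCokernelOfKernel _ (kernelIsKernel p))⟩
  obtain ⟨e⟩ := he
  have hmu : Mono (adj.unit.app X) := inferInstance
  have : Mono fst := MorphismProperty.of_isPullback (P := MorphismProperty.monomorphisms A) hpb.flip hmu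
  have : Mono (fst ≫ G.map e.inv) := mono_comp _ _
  refine ⟨⟨n, k, Q, equivShrink _ (Subobject.mk (fst ≫ G.map e.inv))⟩, ⟨?_⟩⟩
  exact eqToIso (congrArg (fun S : Subobject (G.obj (Qu n k Q)) => (S : A))
    ((equivShrink.{w} _).symm_apply_apply (Subobject.mk (fst ≫ G.map e.inv)))) ≪≫
    Subobject.underlyingIso _

include adj in
theorem exists_separating :
    ∃ (κ : Type w) (t : κ → A), (ObjectProperty.ofObj t).IsSeparating := by
  obtain ⟨κ, t, ht⟩ := exists_small_family F G adj s hsep
  refine ⟨κ, t, fun X Y f g h => sub_eq_zero.1 ?_⟩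
  refine eq_zero_of_small F G adj s hsep (f - g) fun n k U p i P fst snd hp hi hpb => ?_
  obtain ⟨x, ⟨e⟩⟩ := ht X n k U p i P fst snd hp hi hpb
  rw [← cancel_epi e.hom, comp_zero, Preadditive.comp_sub, Preadditive.comp_sub, sub_eq_zero,
    ← Category.assoc, ← Category.assoc]
  exact h (t x) ⟨x⟩ _

include adj in
theorem exists_noetherian_separating (hsN : ∀ i, IsNoetherianObject (s i)) :
    ∃ (κ : Type w) (t : κ → A), (∀ k, IsNoetherianObject (t k)) ∧
      ∀ ⦃X Y : A⦄ (f g : X ⟶ Y), (∀ (k : κ) (h : t k ⟶ X), h ≫ f = h ≫ g) → f = g := by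
  obtain ⟨κ, t, ht⟩ := exists_small_family F G adj s hsep
  refine ⟨{x : κ // IsNoetherianObject (t x)}, fun x => t x.1, fun x => x.2,
    fun X Y f g h => sub_eq_zero.1 ?_⟩
  refine eq_zero_of_small F G adj s hsep (f - g) fun n k U p i P fst snd hp hi hpb => ?_
  obtain ⟨x, ⟨e⟩⟩ := ht X n k U p i P fst snd hp hi hpb
  obtain ⟨-, j, hj, -⟩ := exists_mono_of_isPullback F G adj i hpb
  have := isNoetherian_quotient s hsep hsN k p
  have := isNoetherianObject_of_map F P (isNoetherianObject_of_mono j)
  rw [← cancel_epi e.hom, comp_zero, Preadditive.comp_sub, Preadditive.comp_sub, sub_eq_zero,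
    ← Category.assoc, ← Category.assoc]
  exact h ⟨x, isNoetherianObject_of_mono e.hom⟩ _

end Generators

include adj in
theorem isGrothendieckAbelian_of_adjoint [IsGrothendieckAbelian.{w} B]
    [PreservesFilteredColimitsOfSize.{w, w} G] : IsGrothendieckAbelian.{w} A := by
  obtain ⟨G₀, hG₀⟩ := HasSeparator.hasSeparator (C := B)
  obtain ⟨κ, t, ht⟩ := exists_separating F G adj (fun _ : PUnit.{w + 1} => G₀)
    (fun X Y f g h => hG₀.def f g fun k => h ⟨⟩ k)
  exact { ab5OfSize := ab5 F G adj, hasSeparator := ⟨_, ht.isSeparator_coproduct⟩ }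

end Groth.Agent.Lib.Grothendieck.AdjointTransfer
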