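import Mathlib.CategoryTheory.Abelian.GrothendieckCategory.EnoughInjectives
import Mathlib.CategoryTheory.Abelian.GrothendieckAxioms.Sheaf
import Mathlib.CategoryTheory.Generator.Presheaf
import Mathlib.Algebra.Category.Grp.AB
import Mathlib.CategoryTheory.Functor.ReflectsIso.Balanced
import Mathlib.Algebra.Category.ModuleCat.Presheaf.Generator
import Mathlib.Algebra.Category.ModuleCat.Presheaf.Abelian
import Mathlib.Algebra.Category.ModuleCat.Presheaf.EpiMono
import Mathlib.Algebra.Category.ModuleCat.Presheaf.Colimits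
import Mathlib.Algebra.Category.ModuleCat.Presheaf.Limits

/-!
# Functorial injective embeddings in Grothendieck abelian categories, and examples
-/

universe w v u

open CategoryTheory CategoryTheory.Limits MorphismProperty ZeroObject

namespace Groth.Agent.Lib.Grothendieck.FunctorialInjective

theorem exists_functorial_injective_embedding (A : Type u) [Category.{v} A] [Abelian A]
    [IsGrothendieckAbelian.{w} A] :
    ∃ (J : A ⥤ A) (j : 𝟭 A ⟶ J), ∀ F : A, Injective (J.obj F) ∧ Mono (j.app F) := by
  let T : A ⥤ Arrow A :=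
    { obj := fun M => Arrow.mk (0 : M ⟶ (0 : A))
      map := fun f => Arrow.homMk f (𝟙 _) ((isZero_zero _).eq_of_tgt _ _) }
  let D := functorialFactorizationData (monomorphisms A) (monomorphisms A).rlp
  refine ⟨T ⋙ D.Z, { app := fun M => D.i.app (T.obj M)
                     naturality := fun _ _ f => D.i.naturality (T.map f) }, fun F => ⟨?_, D.hi _⟩⟩
  have h := D.hp (T.obj F)
  refine ⟨fun {X Y} g f _ => ?_⟩
  have sq : CommSq g f (D.p.app (T.obj F)) 0 := ⟨(isZero_zero _).eq_of_tgt _ _⟩
  have := h f (monomorphisms.infer_property f)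
  exact ⟨sq.lift, sq.fac_left⟩

instance presheaf {C : Type u} [SmallCategory C] :
    IsGrothendieckAbelian.{u} (Cᵒᵖ ⥤ AddCommGrpCat.{u}) where
  ab5OfSize := ⟨fun _ _ _ => inferInstance⟩

instance presheafOfModules {C : Type u} [SmallCategory C] (O : Cᵒᵖ ⥤ RingCat.{u}) :
    IsGrothendieckAbelian.{u} (PresheafOfModules.{u} O) where
  hasFilteredColimitsOfSize := ⟨fun _ _ _ => inferInstance⟩
  ab5OfSize := ⟨fun J _ _ =>
    haveI : (PresheafOfModules.toPresheaf O).ReflectsIsomorphisms :=
      reflectsIsomorphisms_of_reflectsMonomorphisms_of_reflectsEpimorphisms _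
    haveI : ReflectsFiniteLimits (PresheafOfModules.toPresheaf O) :=
      ⟨fun _ _ _ => reflectsLimitsOfShape_of_reflectsIsomorphisms⟩
    HasExactColimitsOfShape.domain_of_functor J (PresheafOfModules.toPresheaf O)⟩
  hasSeparator := by
    have h := PresheafOfModules.freeYoneda.isSeparating O
    unfold PresheafOfModules.freeYoneda at h
    exact ⟨⟨_, h.isSeparator_coproduct⟩⟩

end Groth.Agent.Lib.Grothendieck.FunctorialInjective
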